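import Mathlib

/-!
Subgroups generated by few transpositions have small orbits.
-/

namespace CfsgLib.SwapClosure

variable {α : Type*} [Fintype α] [DecidableEq α]

/-- A list of swaps fixes a labelling with at least `card α - length` labels. -/
theorem exists_label : ∀ l : List (Equiv.Perm α), (∀ t ∈ l, t.IsSwap) →
    ∃ f : α → α, (∀ t ∈ l, ∀ x, f (t x) = f x) ∧
      Fintype.card α ≤ (Finset.univ.image f).card + l.length := by
  intro l
  induction l with
  | nil => intro _; exact ⟨id, by simp, by simp⟩
  | cons t l ih =>
    intro h
    obtain ⟨f, hf, hcard⟩ := ih fun s hs => h s (List.mem_cons_of_mem _ hs)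
    obtain ⟨a, b, hab, rfl⟩ := h t (List.mem_cons_self)
    let g : α → α := fun x => if f x = f b then f a else f x
    refine ⟨g, ?_, ?_⟩
    · intro s hs x
      rcases List.mem_cons.mp hs with rfl | hs
      · rw [Equiv.swap_apply_def]
        simp only [g]
        split_ifs <;> simp_all
      · simp [g, hf s hs x]
    · have hsub : Finset.univ.image f ⊆ insert (f b) (Finset.univ.image g) := by
        intro y hy
        obtain ⟨x, -, rfl⟩ := Finset.mem_image.mp hy
        by_cases hx : f x = f b
        · simp [hx]
        · exact Finset.mem_insert_of_mem (Finset.mem_image.mpr ⟨x, Finset.mem_univ _, if_neg hx⟩)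
      have := (Finset.card_le_card hsub).trans (Finset.card_insert_le _ _)
      simp only [List.length_cons]
      omega

theorem label_closure {s : Set (Equiv.Perm α)} {f : α → α} (hf : ∀ t ∈ s, ∀ x, f (t x) = f x)
    {σ : Equiv.Perm α} (hσ : σ ∈ Subgroup.closure s) (x : α) : f (σ x) = f x := by
  induction hσ using Subgroup.closure_induction generalizing x with
  | mem t ht => exact hf t ht x
  | one => rfl
  | mul a b _ _ ha hb => rw [Equiv.Perm.mul_apply, ha, hb]
  | inv a _ ha =>
    have := ha (a⁻¹ x)
    rw [show a (a⁻¹ x) = x from a.apply_symm_apply x] at this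
    exact this.symm

/-- A fibre of a labelling with many labels is small. -/
theorem card_fiber_le {f : α → α} {k : ℕ} (h : Fintype.card α ≤ (Finset.univ.image f).card + k) (b : α) :
    Fintype.card {x // f x = b} ≤ k + 1 := by
  rw [Fintype.card_subtype]
  have h1 : (Finset.univ.image f).card ≤ ((Finset.univ.filter fun x => ¬ f x = b).image f).card + 1 := by
    refine (Finset.card_le_card (t := insert b ((Finset.univ.filter fun x => ¬ f x = b).image f)) ?_).trans
      (Finset.card_insert_le _ _)
    intro y hy
    obtain ⟨x, -, rfl⟩ := Finset.mem_image.mp hy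
    by_cases hx : f x = b
    · simp [hx]
    · exact Finset.mem_insert_of_mem (Finset.mem_image.mpr ⟨x, by simp [hx], rfl⟩)
  have h2 := Finset.card_image_le (f := f) (s := Finset.univ.filter fun x => ¬ f x = b)
  have h3 := Finset.card_filter_add_card_filter_not (s := (Finset.univ : Finset α)) (fun x => f x = b)
  rw [Finset.card_univ] at h3
  omega

end CfsgLib.SwapClosure
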